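import Cfsg.Agent.H689.Ccp.GBase
import Cfsg.Agent.FastGrp
import Cfsg.Agent.Prune
set_option linter.all false
prune_inst 0x7f00000000000000000000000000000000000000000000000000000000000000000000000000000000000000000000000000000000000000000000000000000000000000000000000000000000000000003fffffffffffffffffffffffffffbeffbdffffffff
open scoped Cfsg.Agent.FastGrp

/-!
# Automorphisms of graph type of `G₂(3^a)` (helper689, for S4114)
-/

set_option autoImplicit false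
set_option linter.unusedSectionVars false
set_option maxRecDepth 100000

namespace Cfsg.Agent.H689.Ccp

open scoped Pointwise
open Subgroup Cfsg Cfsg.Lie Cfsg.Agent.ChevalleyStructure Cfsg.Agent.ChevalleyStructure.Elts
  Cfsg.Agent.H70.ChevFix Cfsg.Agent.H70.ChevField Cfsg.Agent.H70.OutCount Cfsg.Agent.Schreier.ChevLocal
  Cfsg.Agent.H70.PermFix Cfsg.Agent.Schreier.ChevSch Cfsg.Agent.H70.AutFix Cfsg.Agent.ChevalleyStructure.BNChev
  Cfsg.Agent.S1042 Cfsg.Agent.ChevalleyStructure.NConj Cfsg.Agent.H70.ChevTab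

universe u

variable {F : Type u} [Field F] [Finite F] [CharP F 3]

theorem exists_form {φ : MulAut (GG2 F)} {π : Equiv.Perm (Fin chevG2.rank)} (hp : Perm chevG2 F φ π) (hπ : π ≠ 1) :
    ∃ x y : F, x ≠ 0 ∧ y ≠ 0 ∧ ∃ σ : F ≃+* F, φ = MulAut.conj (H x y) * (fld σ * gam F) := by
  obtain ⟨c, σ, hc, h1, h2, h3⟩ := exists_field hD hp
  obtain ⟨hπ0, hπ1⟩ := perm_g2 π hπ
  -- the relation
  have hrel : ∀ a : F, σ i0 a = (σ i1 a) ^ 3 := by
    intro a
    rcases eq_or_ne a 0 with rfl | ha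
    · rw [map_zero, map_zero]; norm_num
    · have h := h3 i1 i0 a ha
      have e1 : chevG2.cartan (i1 : Fin chevG2.rank) (chevG2.simple (i0 : Fin chevG2.rank)) = -1 := by decide +kernel
      have e2 : chevG2.cartan (i0 : Fin chevG2.rank) (chevG2.simple (i1 : Fin chevG2.rank)) = -3 := by decide +kernel
      rw [hπ0, hπ1, e1, e2, map_zpow₀, zpow_neg, zpow_neg, inv_inj, zpow_one] at h
      exact_mod_cast h
  have hc0 := hc i0
  have hc1 := hc i1
  have v7 : ∀ t : F, φ (X 7 t) = X 6 (c i0 * (σ i1 t) ^ 3) := by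
    intro t
    have h := h1 i0 t
    rw [hπ0, simple_i0, simple_i1, hrel] at h
    exact h
  have v6 : ∀ t : F, φ (X 6 t) = X 7 (c i1 * σ i1 t) := by
    intro t
    have h := h1 i1 t
    rw [hπ1, simple_i0, simple_i1] at h
    exact h
  have v4 : ∀ t : F, φ (X 4 t) = X 5 ((c i0)⁻¹ * (σ i1 t) ^ 3) := by
    intro t
    have h := h2 i0 t
    rw [hπ0, neg_i0, neg_i1, hrel] at h
    exact h
  have v5 : ∀ t : F, φ (X 5 t) = X 4 ((c i1)⁻¹ * σ i1 t) := by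
    intro t
    have h := h2 i1 t
    rw [hπ1, neg_i0, neg_i1] at h
    exact h
  have hx : c i0 * c i1 ^ 2 ≠ 0 := mul_ne_zero hc0 (pow_ne_zero _ hc1)
  have hy : c i0 ^ 2 * c i1 ^ 3 ≠ 0 := mul_ne_zero (pow_ne_zero _ hc0) (pow_ne_zero _ hc1)
  refine ⟨c i0 * c i1 ^ 2, c i0 ^ 2 * c i1 ^ 3, hx, hy, σ i1, ?_⟩
  have key : ∀ r < 12, ∀ t : F, (MulAut.conj (H (c i0 * c i1 ^ 2) (c i0 ^ 2 * c i1 ^ 3)) * (fld (σ i1) * gam F)) (X r t) =
      X (fl r) ((c i0 * c i1 ^ 2) ^ ca (fl r) * ((c i0 ^ 2 * c i1 ^ 3) ^ cb (fl r) * (σ i1 t ^ la r))) := by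
    intro r hr t
    rw [MulAut.mul_apply, psi_X _ hr, MulAut.conj_apply, H_conj hx hy (fl_tab r hr).1]
  apply ext_aut
  · intro t
    rw [v7, key 7 (by norm_num)]
    show X 6 _ = X 6 ((c i0 * c i1 ^ 2) ^ (-3 : ℤ) * ((c i0 ^ 2 * c i1 ^ 3) ^ (2 : ℤ) * (σ i1 t ^ 3)))
    congr 1
    rw [zpow_neg]
    have e3 : (c i0 * c i1 ^ 2) ^ (3 : ℤ) = (c i0 * c i1 ^ 2) ^ 3 := by norm_cast
    have e2 : (c i0 ^ 2 * c i1 ^ 3) ^ (2 : ℤ) = (c i0 ^ 2 * c i1 ^ 3) ^ 2 := by norm_cast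
    rw [e3, e2]
    field_simp
  · intro t
    rw [v6, key 6 (by norm_num)]
    show X 7 _ = X 7 ((c i0 * c i1 ^ 2) ^ (2 : ℤ) * ((c i0 ^ 2 * c i1 ^ 3) ^ (-1 : ℤ) * (σ i1 t ^ 1)))
    congr 1
    have e3 : (c i0 * c i1 ^ 2) ^ (2 : ℤ) = (c i0 * c i1 ^ 2) ^ 2 := by norm_cast
    rw [zpow_neg, zpow_one, e3]
    field_simp
  · intro t
    rw [v4, key 4 (by norm_num)]
    show X 5 _ = X 5 ((c i0 * c i1 ^ 2) ^ (3 : ℤ) * ((c i0 ^ 2 * c i1 ^ 3) ^ (-2 : ℤ) * (σ i1 t ^ 3)))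
    congr 1
    have e3 : (c i0 * c i1 ^ 2) ^ (3 : ℤ) = (c i0 * c i1 ^ 2) ^ 3 := by norm_cast
    have e2 : (c i0 ^ 2 * c i1 ^ 3) ^ (2 : ℤ) = (c i0 ^ 2 * c i1 ^ 3) ^ 2 := by norm_cast
    rw [zpow_neg, e3, e2]
    field_simp
  · intro t
    rw [v5, key 5 (by norm_num)]
    show X 4 _ = X 4 ((c i0 * c i1 ^ 2) ^ (-2 : ℤ) * ((c i0 ^ 2 * c i1 ^ 3) ^ (1 : ℤ) * (σ i1 t ^ 1)))
    congr 1
    have e3 : (c i0 * c i1 ^ 2) ^ (2 : ℤ) = (c i0 * c i1 ^ 2) ^ 2 := by norm_cast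
    rw [zpow_neg, zpow_one, e3]
    field_simp

/-- `fld σ * gam` -/
noncomputable abbrev psi (σ : F ≃+* F) : MulAut (GG2 F) := fld σ * gam F

theorem frob_eq (_ : F) : ∃ τ : F ≃+* F, ∀ t : F, τ t = t ^ 3 := by
  have h3 : Fact (Nat.Prime 3) := ⟨Nat.prime_three⟩
  have hi : Function.Injective (frobenius F 3) := frobenius_inj F 3
  exact ⟨RingEquiv.ofBijective (frobenius F 3) ⟨hi, Finite.surjective_of_injective hi⟩, fun t => rfl⟩

variable (F) in
/-- the Frobenius -/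
noncomputable def frb : F ≃+* F := (frob_eq (0 : F)).choose

theorem frb_apply (t : F) : frb F t = t ^ 3 := (frob_eq (0 : F)).choose_spec t

theorem psi_sq (σ : F ≃+* F) : psi σ * psi σ = fld (σ * σ * frb F) := by
  have key : ∀ r < 12, ∀ t : F, (psi σ * psi σ) (X r t) = fld (σ * σ * frb F) (X r t) := by
    intro r hr t
    obtain ⟨h1, h2, h3, -⟩ := fl_tab r hr
    rw [MulAut.mul_apply, psi_X σ hr, psi_X σ h1, h2, fld_X _ hr, map_pow, ← pow_mul, h3]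
    show _ = X r (σ (σ (frb F t)))
    rw [frb_apply, map_pow, map_pow]
  exact ext_aut (key 7 (by norm_num)) (key 6 (by norm_num)) (key 4 (by norm_num)) (key 5 (by norm_num))

/-- `psi` preserves `U`, `H`, `B` -/
theorem psi_UU (σ : F ≃+* F) {u : GG2 F} (hu : u ∈ UU chevG2 F) : psi σ u ∈ UU chevG2 F := by
  have hle : UU chevG2 F ≤ (UU chevG2 F).comap (psi σ : MulAut (GG2 F)).toMonoidHom := by
    have h1 : chevG2.posUnipotent F ≤ ((UU chevG2 F).comap (psi σ : MulAut (GG2 F)).toMonoidHom).map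
        (chevG2.group F).subtype := by
      refine (posUnipotent_le_iff hD _).2 fun r hr t => ?_
      have hr' : ∀ r < 12, chevG2.IsPosRoot r → 6 ≤ r := by decide +kernel
      have hr12 : r < 12 := hr.1
      refine ⟨X r t, ?_, rfl⟩
      show psi σ (X r t) ∈ UU chevG2 F
      rw [psi_X σ hr12]
      exact X_mem_UU ((fl_tab r hr12).2.2.2 (hr' r hr12 hr)) (fl_tab r hr12).1 _
    intro g hg
    obtain ⟨g', hg', e⟩ := h1 hg
    have e' : g' = g := Subtype.ext e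
    rwa [e'] at hg'
  exact hle hu

theorem root_la (r : ℕ) (hr : r < 12) (t : F) : ∃ s : F, s ^ la r = t := by
  have h : ∀ r < 12, la r = 1 ∨ la r = 3 := by decide +kernel
  rcases h r hr with h1 | h1
  · exact ⟨t, by rw [h1, pow_one]⟩
  · rw [h1]; exact perf F t

/-- every root element is a value of `psi σ` -/
theorem exists_psi (σ : F ≃+* F) {r : ℕ} (hr : r < 12) (t : F) : ∃ s : F, σ s ^ la (fl r) = t ∧
    psi σ (X (fl r) s) = X r t := by
  obtain ⟨h1, h2, h3, -⟩ := fl_tab r hr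
  obtain ⟨s, hs⟩ := root_la (fl r) h1 t
  refine ⟨σ.symm s, by rw [RingEquiv.apply_symm_apply, hs], ?_⟩
  rw [psi_X σ h1, h2, RingEquiv.apply_symm_apply, hs]

/-- the action of `psi σ` on the torus -/
theorem psi_H (σ : F ≃+* F) {x y : F} (hx : x ≠ 0) (hy : y ≠ 0) : psi σ (H x y) = H (σ y) (σ x ^ 3) := by
  have hσ : ∀ {z : F}, z ≠ 0 → σ z ≠ 0 := fun {z} hz => by rwa [Ne, EmbeddingLike.map_eq_zero_iff]
  have hx' := hσ hx
  have hy' := hσ hy
  apply ext_conj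
  intro r hr t
  obtain ⟨s, hs, e⟩ := exists_psi σ hr t
  obtain ⟨h1, h2, h3, -⟩ := fl_tab r hr
  rw [H_conj hy' (pow_ne_zero 3 hx') hr, ← e, ← map_inv, ← map_mul, ← map_mul, H_conj hx hy h1, psi_X σ h1, h2, map_mul,
    map_mul, mul_pow, mul_pow, hs, map_zpow₀, map_zpow₀]
  have htab : ∀ r < 12, (ca (fl r)) * (la (fl r) : ℤ) = 3 * cb r ∧ (cb (fl r)) * (la (fl r) : ℤ) = ca r := by decide +kernel
  obtain ⟨t1, t2⟩ := htab r hr
  have e1 : (σ x ^ ca (fl r)) ^ la (fl r) = (σ x ^ 3) ^ cb r := by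
    rw [← zpow_natCast, ← zpow_mul, t1, zpow_mul]
    norm_cast
  have e2 : (σ y ^ cb (fl r)) ^ la (fl r) = σ y ^ ca r := by
    rw [← zpow_natCast, ← zpow_mul, t2]
  rw [e1, e2]
  congr 1
  ring

theorem psi_BB (σ : F ≃+* F) {b : GG2 F} (hb : b ∈ BB chevG2 F) : psi σ b ∈ BB chevG2 F := by
  obtain ⟨u, hu, x, y, hx, hy, rfl⟩ := exists_B hb
  have hσ : ∀ {z : F}, z ≠ 0 → σ z ≠ 0 := fun {z} hz => by rwa [Ne, EmbeddingLike.map_eq_zero_iff]
  rw [map_mul, psi_H σ hx hy]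
  exact mul_mem (UU_le F (psi_UU σ hu)) (HH_le (H_mem (hσ hy) (pow_ne_zero 3 (hσ hx))))

/-! ### The centre of `U` -/

theorem UU_induction {P : GG2 F → Prop} (h1 : P 1) (hm : ∀ a b, P a → P b → P (a * b)) (hi : ∀ a, P a → P a⁻¹)
    (hX : ∀ r < 12, 6 ≤ r → ∀ t : F, P (X r t)) {u : GG2 F} (hu : u ∈ UU chevG2 F) : P u := by
  let K : Subgroup (GG2 F) := { carrier := {g | P g}, mul_mem' := fun {a b} ha hb => hm a b ha hb, one_mem' := h1,
                                inv_mem' := fun {a} ha => hi a ha }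
  have h1 : chevG2.posUnipotent F ≤ K.map (chevG2.group F).subtype := by
    refine (posUnipotent_le_iff hD _).2 fun r hr t => ?_
    have hr' : ∀ r < 12, chevG2.IsPosRoot r → 6 ≤ r := by decide +kernel
    have hr12 : r < 12 := hr.1
    exact ⟨X r t, hX r hr12 (hr' r hr12 hr) t, rfl⟩
  obtain ⟨g', hg', e⟩ := h1 hu
  have e' : g' = u := Subtype.ext e
  rw [← e']
  exact hg'

theorem comm_of_gen {z u : GG2 F} (hz : ∀ r < 12, 6 ≤ r → ∀ t : F, z * X r t = X r t * z) (hu : u ∈ UU chevG2 F) :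
    z * u = u * z := by
  refine UU_induction (P := fun u => z * u = u * z) (by simp) ?_ ?_ hz hu
  · intro a b ha hb
    rw [← mul_assoc, ha, mul_assoc, hb, mul_assoc]
  · intro a ha
    have : a⁻¹ * (z * a) * a⁻¹ = a⁻¹ * (a * z) * a⁻¹ := by rw [ha]
    simpa only [mul_assoc, _root_.inv_mul_cancel_left, _root_.mul_inv_cancel, _root_.mul_one] using this.symm

theorem cent_11 {u : GG2 F} (hu : u ∈ UU chevG2 F) (t : F) : X 11 t * u = u * X 11 t :=
  comm_of_gen (fun r hr h6 s => comm_11 h6 hr t s) hu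

theorem comm_9 {r : ℕ} (h6 : 6 ≤ r) (hr : r < 12) (t s : F) : X 9 t * X r s = X r s * X 9 t := by
  obtain ⟨h1, h2, h3, h4⟩ := fl_tab r hr
  obtain ⟨s', hs'⟩ := root_la (fl r) h1 s
  have h := congrArg (gam F) (comm_11 (h4 h6) h1 t s')
  rw [map_mul, map_mul, gam_X (by norm_num), gam_X h1, h2, hs'] at h
  show X 9 t * X r s = _
  have e : t ^ la 11 = t := pow_one t
  rw [e] at h
  exact h

theorem cent_9 {u : GG2 F} (hu : u ∈ UU chevG2 F) (t : F) : X 9 t * u = u * X 9 t :=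
  comm_of_gen (fun r hr h6 s => comm_9 h6 hr t s) hu

/-- the action of `conj (u * H x y) * psi σ` on `Z(U)` -/
theorem map_9 {u : GG2 F} (hu : u ∈ UU chevG2 F) {x y : F} (hx : x ≠ 0) (hy : y ≠ 0) (σ : F ≃+* F) (s : F) :
    (MulAut.conj (u * H x y) * psi σ) (X 9 s) = X 11 (y * σ s ^ 3) := by
  have e : ∀ a b c : GG2 F, (a * b) * c * (a * b)⁻¹ = a * (b * c * b⁻¹) * a⁻¹ := fun a b c => by group
  rw [MulAut.mul_apply, psi_X σ (by norm_num), MulAut.conj_apply, e]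
  show u * (H x y * X 11 (σ s ^ 3) * (H x y)⁻¹) * u⁻¹ = _
  rw [H_conj hx hy (by norm_num), ← cent_11 hu, mul_inv_cancel_right]
  show X 11 (x ^ (0 : ℤ) * (y ^ (1 : ℤ) * σ s ^ 3)) = _
  rw [zpow_zero, zpow_one, one_mul]

theorem map_11 {u : GG2 F} (hu : u ∈ UU chevG2 F) {x y : F} (hx : x ≠ 0) (hy : y ≠ 0) (σ : F ≃+* F) (s : F) :
    (MulAut.conj (u * H x y) * psi σ) (X 11 s) = X 9 (x * σ s) := by
  have e : ∀ a b c : GG2 F, (a * b) * c * (a * b)⁻¹ = a * (b * c * b⁻¹) * a⁻¹ := fun a b c => by group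
  rw [MulAut.mul_apply, psi_X σ (by norm_num), MulAut.conj_apply, e]
  show u * (H x y * X 9 (σ s ^ 1) * (H x y)⁻¹) * u⁻¹ = _
  rw [H_conj hx hy (by norm_num), ← cent_9 hu, mul_inv_cancel_right]
  show X 9 (x ^ (1 : ℤ) * (y ^ (0 : ℤ) * σ s ^ 1)) = _
  rw [zpow_zero, zpow_one, one_mul, pow_one]

end Cfsg.Agent.H689.Ccp

private theorem dce_9dd1de3bca10 : _root_.True := by
  try have : _root_.True := by simp only [_root_.Cfsg.Agent.H689.Ccp.gam.congr_simp]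
  try have : _root_.True := by simp only [_root_.Cfsg.Agent.H689.Ccp.psi.congr_simp]
  exact _root_.True.intro
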