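import Cfsg.Agent.H70.OutCount
import Cfsg.Agent.S1034
import Cfsg.Agent.TitsThree.KExcBase
import Cfsg.Agent.ChevalleyStructure.GraphG2
import Cfsg.Agent.H566.BNPerm_m3
import Cfsg.Agent.FastGrp
import Cfsg.Agent.Prune
set_option linter.all false
prune_inst 0x7f00000000000000000000000000000000000000000000000000000000000000000000000000000000000000000000000000000000000000000000000000000000000000000000000000000000000000003fffffffffffffffffffffffffffbeffbdffffffff
open scoped Cfsg.Agent.FastGrp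

/-!
# `G₂(3^a)`: root elements, torus and the graph automorphism (helper689, for S4114)

* `X r t` : root elements, `H x y` : the element of the torus with `χ_{2a+b} = x`, `χ_{3a+2b} = y`; `H_conj`;
* `gam` : the graph automorphism, `fld σ` : the field automorphisms;
* `exists_form` : an automorphism exchanging the two fundamental root subgroups is
  `conj (H x y) * (fld σ * gam)`.
-/

set_option autoImplicit false
set_option linter.unusedSectionVars false
set_option maxRecDepth 100000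

namespace Cfsg.Agent.H689.Ccp

open scoped Pointwise
open Subgroup Cfsg Cfsg.Lie Cfsg.Agent.ChevalleyStructure Cfsg.Agent.ChevalleyStructure.Elts
  Cfsg.Agent.H70.ChevFix Cfsg.Agent.H70.ChevField Cfsg.Agent.H70.OutCount Cfsg.Agent.Schreier.ChevLocal
  Cfsg.Agent.H70.PermFix Cfsg.Agent.Schreier.ChevSch Cfsg.Agent.H70.AutFix Cfsg.Agent.ChevalleyStructure.BNChev
  Cfsg.Agent.S1042 Cfsg.Agent.ChevalleyStructure.NConj Cfsg.Agent.H70.ChevTab

universe u

theorem hD : InList chevG2 := by simp [InList]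

/-- the two nodes -/
def i0 : Fin chevG2.rank := ⟨0, by decide⟩
def i1 : Fin chevG2.rank := ⟨1, by decide⟩

theorem fin_g2 (i : Fin chevG2.rank) : i = i0 ∨ i = i1 := by
  have h : ∀ i : Fin 2, i = 0 ∨ i = 1 := by decide
  exact h i

theorem perm_g2 (π : Equiv.Perm (Fin chevG2.rank)) (h : π ≠ 1) : π i0 = i1 ∧ π i1 = i0 := by
  have h' : ∀ π : Equiv.Perm (Fin 2), π ≠ 1 → π 0 = 1 ∧ π 1 = 0 := by decide
  exact h' π h

theorem simple_i0 : chevG2.simple (i0 : Fin chevG2.rank) = 7 := by decide +kernel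
theorem simple_i1 : chevG2.simple (i1 : Fin chevG2.rank) = 6 := by decide +kernel
theorem neg_i0 : chevG2.neg (chevG2.simple (i0 : Fin chevG2.rank)) = 4 := by decide +kernel
theorem neg_i1 : chevG2.neg (chevG2.simple (i1 : Fin chevG2.rank)) = 5 := by decide +kernel

/-- the Cartan numbers -/
def ca (r : ℕ) : ℤ := [0, -3, -1, 1, -2, 3, -3, 2, -1, 1, 3, 0].getD r 0
def cb (r : ℕ) : ℤ := [-1, 1, 0, -1, 1, -2, 2, -1, 1, 0, -1, 1].getD r 0

theorem cartan_tab : ∀ r < 12, chevG2.cartan (i0 : Fin chevG2.rank) r = ca r ∧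
    chevG2.cartan (i1 : Fin chevG2.rank) r = cb r := by decide +kernel

variable {F : Type u} [Field F]

/-- the group -/
abbrev GG2 (F : Type u) [Field F] : Type u := ↥(chevG2.group F)

/-- the root elements -/
abbrev X (r : ℕ) (t : F) : GG2 F := xe hD r t

theorem X_add (r : ℕ) (s t : F) : X r (s + t) = X r s * X r t := xe_add hD r s t
theorem X_zero (r : ℕ) : X r (0 : F) = 1 := xe_zero hD r
theorem X_neg (r : ℕ) (t : F) : X r (-t) = (X r t)⁻¹ := xe_neg hD r t
theorem X_inj {r : ℕ} (hr : r < 12) {s t : F} (h : X r s = X r t) : s = t := xe_inj hD hr h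

/-- the element of the torus with parameters `x`, `y` -/
def H (x y : F) : GG2 F :=
  he hD (chevG2.simple (i0 : Fin chevG2.rank)) x * he hD (chevG2.simple (i1 : Fin chevG2.rank)) y

/-- the characters -/
theorem H_conj {x y : F} (hx : x ≠ 0) (hy : y ≠ 0) {r : ℕ} (hr : r < 12) (t : F) :
    H x y * X r t * (H x y)⁻¹ = X r (x ^ ca r * (y ^ cb r * t)) := by
  have e : ∀ a b c : GG2 F, (a * b) * c * (a * b)⁻¹ = a * (b * c * b⁻¹) * a⁻¹ := fun a b c => by group
  obtain ⟨h1, h2⟩ := cartan_tab r hr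
  rw [H, e, he_conj hD i1.2 hr hy, he_conj hD i0.2 hr hx, h1, h2]

theorem H_mem {x y : F} (hx : x ≠ 0) (hy : y ≠ 0) : H x y ∈ HH chevG2 F :=
  mul_mem (he_mem_HH hD (S1042.simple_lt hD i0.2) hx) (he_mem_HH hD (S1042.simple_lt hD i1.2) hy)

theorem exists_H {g : GG2 F} (hg : g ∈ HH chevG2 F) : ∃ x y : F, x ≠ 0 ∧ y ≠ 0 ∧ g = H x y := by
  obtain ⟨d, hd, hge⟩ := S1034.result chevG2 hD (g : GL chevG2.Idx F) hg
  refine ⟨d 0, d 1, hd 0 i0.2, hd 1 i1.2, ?_⟩
  apply Subtype.ext
  apply Units.ext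
  rw [hge]
  have hr : List.range chevG2.rank = [0, 1] := by decide
  rw [hr, List.flatMap_cons, List.flatMap_cons, List.flatMap_nil, List.append_nil]
  rw [← coe_wordG hD, wordG_append]
  rfl

/-- elements are determined by their action on the root elements -/
theorem ext_conj {g h : GG2 F} (hg : ∀ r < 12, ∀ t : F, g * X r t * g⁻¹ = h * X r t * h⁻¹) : g = h := by
  apply conj_injective hD
  apply ext_values hD
  · intro i t
    exact hg _ (S1042.simple_lt hD i.2) t
  · intro i t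
    exact hg _ (neg_simple_lt hD i.2) t

/-- an automorphism is determined by its values on `X 7`, `X 6`, `X 4`, `X 5` -/
theorem ext_aut {φ ψ : MulAut (GG2 F)} (h7 : ∀ t : F, φ (X 7 t) = ψ (X 7 t)) (h6 : ∀ t : F, φ (X 6 t) = ψ (X 6 t))
    (h4 : ∀ t : F, φ (X 4 t) = ψ (X 4 t)) (h5 : ∀ t : F, φ (X 5 t) = ψ (X 5 t)) : φ = ψ := by
  apply ext_values hD
  · intro i t
    rcases fin_g2 i with rfl | rfl
    · rw [simple_i0]; exact h7 t
    · rw [simple_i1]; exact h6 t
  · intro i t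
    rcases fin_g2 i with rfl | rfl
    · rw [neg_i0]; exact h4 t
    · rw [neg_i1]; exact h5 t

theorem HH_comm {g h : GG2 F} (hg : g ∈ HH chevG2 F) (hh : h ∈ HH chevG2 F) : g * h = h * g := by
  obtain ⟨x, y, hx, hy, rfl⟩ := exists_H hg
  obtain ⟨x', y', hx', hy', rfl⟩ := exists_H hh
  apply ext_conj
  intro r hr t
  have e : ∀ a b c : GG2 F, (a * b) * c * (a * b)⁻¹ = a * (b * c * b⁻¹) * a⁻¹ := fun a b c => by group
  rw [e, e, H_conj hx' hy' hr, H_conj hx hy hr, H_conj hx hy hr, H_conj hx' hy' hr]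
  congr 1
  ring

theorem HH_inf_UU {g : GG2 F} (h1 : g ∈ HH chevG2 F) (h2 : g ∈ UU chevG2 F) : g = 1 := by
  obtain ⟨n₀, hn, h3, h4, -⟩ := exists_n0 hD F
  have h5 : n₀ * g * n₀⁻¹ ∈ HH chevG2 F := conj_mem_diagonal hD hn h1
  have h6 : n₀ * g * n₀⁻¹ ∈ VN chevG2 F := by
    rw [← h3]
    exact (apply_mem_smul_iff (MulAut.conj n₀) (UU chevG2 F) g).2 h2
  have h7 : n₀ * g * n₀⁻¹ = 1 := Subtype.ext (one_of_mem_borel_of_mem_neg (Subgroup.mem_sup_right h5) h6 hD)
  have h8 : g = n₀⁻¹ * (n₀ * g * n₀⁻¹) * n₀ := by group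
  rw [h8, h7]; group

theorem HH_le : HH chevG2 F ≤ BB chevG2 F := fun _ hg => Subgroup.mem_sup_right hg

theorem exists_B {b : GG2 F} (hb : b ∈ BB chevG2 F) : ∃ u ∈ UU chevG2 F, ∃ x y : F, x ≠ 0 ∧ y ≠ 0 ∧ b = u * H x y := by
  obtain ⟨u, hu, h, hh, rfl⟩ := exists_mul F hD hb
  obtain ⟨x, y, hx, hy, rfl⟩ := exists_H hh
  exact ⟨u, hu, x, y, hx, hy, rfl⟩

theorem X_mem_UU {r : ℕ} (h6 : 6 ≤ r) (h12 : r < 12) (t : F) : X r t ∈ UU chevG2 F := by
  have h : chevG2.IsPosRoot r := by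
    have : ∀ r < 12, 6 ≤ r → chevG2.IsPosRoot r := by decide +kernel
    exact this r h12 h6
  exact xG_mem_posUnipotent hD h t

/-- commuting root elements -/
theorem X_comm {r s : ℕ} (hr : r < 12) (hs : s < 12) (hrs : s ≠ r)
    (hneg : s ≠ chevG2.neg r) (h : chevG2.commTerms r s = []) (t u : F) : X r t * X s u = X s u * X r t :=
  Subtype.ext (TitsThree.KExcBase.comm_nil hD hr hs hrs hneg h t u)

theorem comm_11 {s : ℕ} (h6 : 6 ≤ s) (hs : s < 12) (t u : F) : X 11 t * X s u = X s u * X 11 t := by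
  rcases eq_or_ne s 11 with rfl | h
  · rw [← X_add, ← X_add, add_comm]
  · have h1 : ∀ s < 12, 6 ≤ s → s ≠ chevG2.neg 11 ∧ chevG2.commTerms 11 s = [] := by decide +kernel
    exact X_comm (by norm_num) hs h (h1 s hs h6).1 (h1 s hs h6).2 t u

theorem comm_3_1 (t u : F) : X 3 t * X 1 u = X 1 u * X 3 t := by
  have h1 : 1 ≠ chevG2.neg 3 ∧ chevG2.commTerms 3 1 = [] := by decide +kernel
  exact X_comm (by norm_num) (by norm_num) (by norm_num) h1.1 h1.2 t u

/-! ### The graph and field automorphisms -/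

/-- the action on the roots -/
def fl (r : ℕ) : ℕ := [2, 3, 0, 1, 5, 4, 7, 6, 10, 11, 8, 9].getD r 0
def la (r : ℕ) : ℕ := [1, 1, 3, 3, 3, 1, 1, 3, 3, 3, 1, 1].getD r 0

theorem fl_tab : ∀ r < 12, fl r < 12 ∧ fl (fl r) = r ∧ la r * la (fl r) = 3 ∧ (6 ≤ r → 6 ≤ fl r) := by decide +kernel

section Graph

variable (F) [Finite F] [CharP F 3]

theorem perf : ∀ x : F, ∃ y : F, y ^ 3 = x := by
  have h3 : Fact (Nat.Prime 3) := ⟨Nat.prime_three⟩
  have : Function.Injective (frobenius F 3) := frobenius_inj F 3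
  intro x
  obtain ⟨y, hy⟩ := Finite.surjective_of_injective this x
  exact ⟨y, by rw [← hy]; rfl⟩

theorem exists_gam : ∃ γ : MulAut (GG2 F), ∀ r < 12, ∀ t : F, γ (X r t) = X (fl r) (t ^ la r) := by
  obtain ⟨α, hα⟩ := GraphG2.exists_graph (perf F)
  refine ⟨α, fun r hr t => ?_⟩
  have h1 := hα (X r t) r t hr rfl
  apply Subtype.ext
  apply Units.ext
  exact h1

/-- the graph automorphism -/
noncomputable def gam : MulAut (GG2 F) := (exists_gam F).choose

variable {F}

theorem gam_X {r : ℕ} (hr : r < 12) (t : F) : gam F (X r t) = X (fl r) (t ^ la r) := (exists_gam F).choose_spec r hr t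

/-- the field automorphisms -/
noncomputable def fld (σ : F ≃+* F) : MulAut (GG2 F) := (exists_fieldAut hD σ).choose

theorem fld_X (σ : F ≃+* F) {r : ℕ} (hr : r < 12) (t : F) : fld σ (X r t) = X r (σ t) :=
  (exists_fieldAut hD σ).choose_spec r hr t

theorem fld_one : fld (1 : F ≃+* F) = 1 := by
  apply ext_aut <;> intro t <;> rw [fld_X _ (by norm_num)] <;> rfl

/-- the values of `fld σ * gam` -/
theorem psi_X (σ : F ≃+* F) {r : ℕ} (hr : r < 12) (t : F) : (fld σ * gam F) (X r t) = X (fl r) (σ t ^ la r) := by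
  rw [MulAut.mul_apply, gam_X hr, fld_X _ (fl_tab r hr).1, map_pow]

end Graph

end Cfsg.Agent.H689.Ccp

private theorem dce_1d677dca7a49 : _root_.True := by
  try have : _root_.True := by simp only [_root_.Cfsg.Agent.H689.Ccp.H.eq_1]
  exact _root_.True.intro
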